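import Groth.Agent.GenFree.Main
import Mathlib.RingTheory.Localization.BaseChange
import Mathlib.RingTheory.RingHom.FinitePresentation
import Mathlib.Algebra.Module.FinitePresentation

/-!
# Generic freeness for algebras and modules over reduced rings
-/

set_option autoImplicit false
set_option backward.isDefEq.respectTransparency false

universe u

open Submodule TensorProduct

namespace Groth.Agent.GenFree

variable {R : Type u} [CommRing R]

theorem GFree.congr {f : R} {M N : Type u} [AddCommGroup M] [Module R M] [AddCommGroup N] [Module R N]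
    (h : GFree f M) (e : M ≃ₗ[R] N) : GFree f N := by
  obtain ⟨ι, v, hs, hi⟩ := h
  refine ⟨ι, e.toLinearMap ∘ v, fun m => ?_, fun l hl i => hi l ?_ i⟩
  · obtain ⟨k, hk⟩ := hs (e.symm m)
    refine ⟨k, ?_⟩
    rw [Set.range_comp, Submodule.span_image]
    exact ⟨_, hk, by simp⟩
  · rw [← Finsupp.apply_linearCombination] at hl
    exact e.injective (hl.trans (map_zero e).symm)

/-- A module with finitely many relations up to powers of `a` is finitely presented after inverting `a`. -/
theorem finitePresentation_localizedModule_away {S : Type u} [CommRing S] {M : Type u} [AddCommGroup M] [Module S M]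
    {k : ℕ} (π : (Fin k → S) →ₗ[S] M) (hπ : Function.Surjective π) (a : S) (T : Finset (Fin k → S))
    (hT : (T : Set (Fin k → S)) ⊆ LinearMap.ker π)
    (hsat : ∀ u ∈ LinearMap.ker π, ∃ j : ℕ, a ^ j • u ∈ span S (T : Set (Fin k → S))) :
    Module.FinitePresentation (Localization.Away a) (LocalizedModule (Submonoid.powers a) M) := by
  let p := Submonoid.powers a
  let F := LocalizedModule.mkLinearMap p (Fin k → S)
  let F' := LocalizedModule.mkLinearMap p M
  let Φ := (IsLocalizedModule.map p F F' π).extendScalarsOfIsLocalization p (Localization p)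
  have : Module.Free (Localization p) (LocalizedModule p (Fin k → S)) :=
    Module.free_of_isLocalizedModule (R := S) (M := Fin k → S) (Rₛ := Localization p) (Mₛ := LocalizedModule p (Fin k → S)) p F
  have : Module.Finite (Localization p) (LocalizedModule p (Fin k → S)) :=
    Module.Finite.of_isLocalizedModule p F
  have : Module.FinitePresentation (Localization p) (LocalizedModule p (Fin k → S)) :=
    Module.finitePresentation_of_projective _ _
  refine Module.finitePresentation_of_surjective Φ (IsLocalizedModule.map_surjective p F F' π hπ) ?_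
  have hker : LinearMap.ker Φ = span (Localization p) (F '' (T : Set (Fin k → S))) := by
    rw [← LinearMap.localized'_ker_eq_ker_localizedMap (Localization p) p F F' π,
      ← Submodule.localized'_span (S := Localization p) (p := p)]
    apply le_antisymm
    · rintro x ⟨u, hu, s, rfl⟩
      obtain ⟨j, hj⟩ := hsat u hu
      refine ⟨a ^ j • u, hj, ⟨a ^ j, j, rfl⟩ * s, ?_⟩
      rw [IsLocalizedModule.mk'_eq_mk'_iff]
      refine ⟨1, ?_⟩
      simp only [one_smul, Submonoid.smul_def, Submonoid.coe_mul, mul_smul, smul_comm (a ^ j)]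
    · rintro x ⟨u, hu, s, rfl⟩
      exact ⟨u, Submodule.span_le.2 hT hu, s, rfl⟩
  rw [hker]
  exact Submodule.fg_span (T.finite_toSet.image _)

theorem finitePresentation_tensor_away (S : Type u) [CommRing S] [Algebra R S] {n : ℕ}
    (π : MvPolynomial (Fin n) R →ₐ[R] S) (hπ : Function.Surjective π) (f : R)
    (T : Finset (MvPolynomial (Fin n) R)) (hT : (T : Set (MvPolynomial (Fin n) R)) ⊆ RingHom.ker π)
    (hsat : ∀ a ∈ RingHom.ker π, ∃ j : ℕ, f ^ j • a ∈ Ideal.span (T : Set (MvPolynomial (Fin n) R))) :
    Algebra.FinitePresentation (Localization.Away f) (Localization.Away f ⊗[R] S) := by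
  let Rf := Localization.Away f
  let A := MvPolynomial (Fin n) R
  let τ : Rf ⊗[R] A →ₐ[Rf] Rf ⊗[R] S := Algebra.TensorProduct.map (AlgHom.id Rf Rf) π
  have hτ : Function.Surjective τ := LinearMap.lTensor_surjective Rf (g := π.toLinearMap) hπ
  refine Algebra.FinitePresentation.of_surjective hτ ?_
  let i : A →ₐ[R] Rf ⊗[R] A := Algebra.TensorProduct.includeRight
  have hker : RingHom.ker τ = Ideal.span (i '' (T : Set A)) := by
    have h : RingHom.ker τ = (RingHom.ker π).map i := Algebra.TensorProduct.lTensor_ker π hπ
    rw [h, ← Ideal.map_span]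
    refine le_antisymm (Ideal.map_le_iff_le_comap.2 fun a ha => ?_) (Ideal.map_mono (Ideal.span_le.2 hT))
    obtain ⟨j, hj⟩ := hsat a ha
    have h1 := Ideal.mem_map_of_mem i hj
    rw [map_smul] at h1
    obtain ⟨v, hv⟩ := (IsLocalization.map_units Rf (⟨f ^ j, j, rfl⟩ : Submonoid.powers f))
    have : i a = (algebraMap Rf (Rf ⊗[R] A) (↑v⁻¹ : Rf)) * (f ^ j • i a) := by
      rw [Algebra.smul_def (f ^ j) (i a), IsScalarTower.algebraMap_apply R Rf (Rf ⊗[R] A), ← mul_assoc, ← map_mul,
        show algebraMap R Rf (f ^ j) = (v : Rf) from hv.symm, Units.inv_mul, map_one, one_mul]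
    rw [Ideal.mem_comap, this]
    exact Ideal.mul_mem_left _ _ h1
  change (RingHom.ker τ).FG
  rw [hker]
  exact Submodule.fg_span (T.finite_toSet.image _)

variable [IsReduced R]

/-- **Generic freeness** over a reduced ring. -/
theorem exists_generic_freeness (S : Type u) [CommRing S] [Algebra R S] [Algebra.FiniteType R S]
    (M : Type u) [AddCommGroup M] [Module S M] [Module R M] [IsScalarTower R S M] [Module.Finite S M]
    {g : R} (hg : g ≠ 0) :
    ∃ f : R, g ∣ f ∧ f ≠ 0 ∧ Module.Free (Localization.Away f) (LocalizedModule.Away f M) ∧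
      Module.Free (Localization.Away f) (LocalizedModule.Away f S) ∧
      Algebra.FinitePresentation (Localization.Away f) (Localization.Away f ⊗[R] S) ∧
      Module.FinitePresentation (Localization.Away (algebraMap R S f))
        (LocalizedModule (Submonoid.powers (algebraMap R S f)) M) := by
  classical
  obtain ⟨n, π, hπ⟩ := Algebra.FiniteType.iff_quotient_mvPolynomial''.1 ‹Algebra.FiniteType R S›
  -- the algebra
  let W₁ : Submodule (MvPolynomial (Fin n) R) (Fin 1 → MvPolynomial (Fin n) R) :=
    Submodule.comap
      (LinearMap.proj (R := MvPolynomial (Fin n) R) (φ := fun _ : Fin 1 => MvPolynomial (Fin n) R) 0) (RingHom.ker π)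
  obtain ⟨f₁, T₁, hgf₁, hf₁, hT₁, hsat₁, hfree₁⟩ := exists_gFree_presentation W₁ hg
  have hS : GFree f₁ S := by
    let q : (Fin 1 → MvPolynomial (Fin n) R) →ₗ[R] S := π.toLinearMap ∘ₗ LinearMap.proj 0
    have hq : Function.Surjective q := hπ.comp fun a => ⟨fun _ => a, rfl⟩
    exact hfree₁.congr
      ((Submodule.Quotient.restrictScalarsEquiv R W₁).symm ≪≫ₗ
        (Submodule.quotEquivOfEq _ _ (SetLike.ext fun u => Iff.rfl) ≪≫ₗ q.quotKerEquivOfSurjective hq))
  -- the module
  obtain ⟨k, s, hs⟩ := Module.Finite.exists_fin (R := S) (M := M)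
  let πS : (Fin k → S) →ₗ[S] M := Fintype.linearCombination S s
  have hπS : Function.Surjective πS := by
    rw [← LinearMap.range_eq_top, Fintype.range_linearCombination, hs]
  let μ : (Fin k → MvPolynomial (Fin n) R) →ₗ[R] (Fin k → S) :=
    LinearMap.pi fun i => π.toLinearMap ∘ₗ LinearMap.proj i
  have hμs : ∀ (a : MvPolynomial (Fin n) R) u, μ (a • u) = π a • μ u := fun a u => by
    funext i
    exact map_mul π a (u i)
  have hμ : Function.Surjective μ := fun u => ⟨fun i => (hπ (u i)).choose, funext fun i => (hπ (u i)).choose_spec⟩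
  let W : Submodule (MvPolynomial (Fin n) R) (Fin k → MvPolynomial (Fin n) R) :=
    { carrier := {u | πS (μ u) = 0}
      zero_mem' := by simp
      add_mem' := fun {a b} (ha : πS (μ a) = 0) (hb : πS (μ b) = 0) => by
        change πS (μ (a + b)) = 0
        rw [map_add, map_add, ha, hb, add_zero]
      smul_mem' := fun a u (hu : πS (μ u) = 0) => by
        change πS (μ (a • u)) = 0
        rw [hμs, map_smul, hu, smul_zero] }
  obtain ⟨f, T, hf₁f, hf, hT, hsat, hfree⟩ := exists_gFree_presentation W hf₁
  have hM : GFree f M := by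
    let q : (Fin k → MvPolynomial (Fin n) R) →ₗ[R] M := πS.restrictScalars R ∘ₗ μ
    exact hfree.congr
      ((Submodule.Quotient.restrictScalarsEquiv R W).symm ≪≫ₗ
        (Submodule.quotEquivOfEq _ _ (SetLike.ext fun u => Iff.rfl) ≪≫ₗ
          q.quotKerEquivOfSurjective (hπS.comp hμ)))
  refine ⟨f, hgf₁.trans hf₁f, hf, hM.free, (hS.mono hf₁f).free, ?_, ?_⟩
  · refine finitePresentation_tensor_away S π hπ f (T₁.image fun t => t 0) ?_ fun a ha => ?_
    · rw [Finset.coe_image]
      rintro _ ⟨t, ht, rfl⟩
      exact hT₁ ht
    · obtain ⟨j, hj⟩ := hsat₁ (fun _ => a) ha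
      obtain ⟨e, rfl⟩ := hf₁f
      refine ⟨j, ?_⟩
      rw [mul_pow, mul_comm, mul_smul]
      refine Submodule.smul_of_tower_mem _ _ ?_
      rw [Finset.coe_image]
      have := Submodule.mem_map_of_mem (f := LinearMap.proj (R := MvPolynomial (Fin n) R) (0 : Fin 1)) hj
      rw [Submodule.map_span] at this
      exact this
  · refine finitePresentation_localizedModule_away πS hπS _ (T.image μ) ?_ fun u hu => ?_
    · rw [Finset.coe_image]
      rintro _ ⟨t, ht, rfl⟩
      exact hT ht
    · obtain ⟨u, rfl⟩ := hμ u
      obtain ⟨j, hj⟩ := hsat u hu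
      refine ⟨j, ?_⟩
      rw [← map_pow, algebraMap_smul, ← map_smul, Finset.coe_image]
      generalize f ^ j • u = x at hj
      induction hj using Submodule.span_induction with
      | mem y hy => exact subset_span ⟨y, hy, rfl⟩
      | zero => rw [map_zero]; exact zero_mem _
      | add a b _ _ ha hb => rw [map_add]; exact add_mem ha hb
      | smul a b _ hb => rw [hμs]; exact Submodule.smul_mem _ _ hb

/-- Properties of the map of localizations are those of the base change. -/
theorem awayMap_of_tensor (P : ∀ {A B : Type u} [CommRing A] [CommRing B], (A →+* B) → Prop)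
    (hP : RingHom.RespectsIso P) (S : Type u) [CommRing S] [Algebra R S] (f : R)
    (h : P (algebraMap (Localization.Away f) (Localization.Away f ⊗[R] S))) :
    P (Localization.awayMap (algebraMap R S) f) := by
  let Rf := Localization.Away f
  let := Algebra.TensorProduct.rightAlgebra (R := R) (A := Rf) (B := S)
  let ε := IsLocalization.Away.tensorRightEquiv S f Rf
  let e : Rf ⊗[R] S ≃+* Localization.Away (algebraMap R S f) := ε.toRingEquiv
  have he : Localization.awayMap (algebraMap R S) f = e.toRingHom.comp (algebraMap Rf (Rf ⊗[R] S)) := by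
    refine IsLocalization.ringHom_ext (Submonoid.powers f) (RingHom.ext fun r => ?_)
    simp only [Localization.awayMap, IsLocalization.Away.map, RingHom.comp_apply, IsLocalization.map_eq]
    have hlr : algebraMap Rf (Rf ⊗[R] S) (algebraMap R Rf r) = algebraMap S (Rf ⊗[R] S) (algebraMap R S r) := by
      change algebraMap R Rf r ⊗ₜ[R] (1 : S) = (1 : Rf) ⊗ₜ[R] algebraMap R S r
      rw [← mul_one (algebraMap R Rf r), ← Algebra.smul_def, TensorProduct.smul_tmul, Algebra.smul_def, mul_one]
    rw [hlr]
    exact (ε.commutes (algebraMap R S r)).symm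
  rw [he]
  exact hP.1 _ e h

/-- The map of localizations is of finite presentation. -/
theorem finitePresentation_awayMap (S : Type u) [CommRing S] [Algebra R S] (f : R)
    (h : Algebra.FinitePresentation (Localization.Away f) (Localization.Away f ⊗[R] S)) :
    (Localization.awayMap (algebraMap R S) f).FinitePresentation :=
  awayMap_of_tensor RingHom.FinitePresentation RingHom.finitePresentation_respectsIso S f
    (RingHom.finitePresentation_algebraMap.2 h)

end Groth.Agent.GenFree
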