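import Groth.Agent.GenFree.Algebra
import Mathlib.AlgebraicGeometry.Morphisms.Flat
import Mathlib.AlgebraicGeometry.Morphisms.FinitePresentation
import Mathlib.AlgebraicGeometry.Morphisms.QuasiCompact
import Mathlib.AlgebraicGeometry.Properties

/-!
# Generic flatness over reduced schemes
-/

set_option autoImplicit false
set_option backward.isDefEq.respectTransparency false

universe u

open CategoryTheory AlgebraicGeometry

namespace Groth.Agent.GenFree

theorem appLE_basicOpen_of_appLE {Q : ∀ {R S : Type u} [CommRing R] [CommRing S], (R →+* S) → Prop}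
    (hQ : RingHom.LocalizationAwayPreserves Q) {X Y : Scheme.{u}} (f : X ⟶ Y) (U : Y.affineOpens)
    (W : X.affineOpens) (e : W.1 ≤ f ⁻¹ᵁ U.1) (h : Q (f.appLE U.1 W.1 e).hom) (r : Γ(Y, U.1)) :
    Q (f.appLE (Y.basicOpen r) (X.basicOpen (f.appLE U.1 W.1 e r)) (by simp [Scheme.Hom.appLE])).hom := by
  let := U.2.isLocalization_basicOpen r
  let := W.2.isLocalization_basicOpen (f.appLE U.1 W.1 e r)
  rw [IsAffineOpen.appLE_eq_away_map f U.2 W.2 e r, CommRingCat.hom_ofHom]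
  exact hQ _ r _ _ h

theorem restrict_of_exists_appLE {P : MorphismProperty Scheme.{u}}
    {Q : ∀ {R S : Type u} [CommRing R] [CommRing S], (R →+* S) → Prop} [HasRingHomProperty P Q]
    (hQ : RingHom.StableUnderCompositionWithLocalizationAwaySource Q)
    {X Y : Scheme.{u}} (f : X ⟶ Y) (U : Y.Opens)
    (h : ∀ x : X, f x ∈ U → ∃ (V : Y.affineOpens) (W : X.affineOpens) (_ : V.1 ≤ U) (_ : x ∈ W.1)
      (e : W.1 ≤ f ⁻¹ᵁ V.1), Q (f.appLE V.1 W.1 e).hom) : P (f ∣_ U) := by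
  refine (HasRingHomProperty.iff_exists_appLE (P := P) hQ).2 fun x => ?_
  obtain ⟨V, W, hVU, hxW, e, hq⟩ := h x.1 x.2
  have hWU : W.1 ≤ f ⁻¹ᵁ U := e.trans fun y hy => hVU hy
  refine ⟨⟨U.ι ⁻¹ᵁ V.1, V.2.preimage_of_isOpenImmersion _ (by rw [Scheme.Opens.opensRange_ι]; exact hVU)⟩,
    ⟨(f ⁻¹ᵁ U).ι ⁻¹ᵁ W.1, W.2.preimage_of_isOpenImmersion _ (by rw [Scheme.Opens.opensRange_ι]; exact hWU)⟩,
    hxW, fun y hy => ?_, ?_⟩
  · have := e hy
    simpa [morphismRestrict_base] using this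
  · rw [morphismRestrict_appLE]
    have h1 : U.ι ''ᵁ (U.ι ⁻¹ᵁ V.1) = V.1 := by
      rw [Scheme.Hom.image_preimage_eq_opensRange_inf, Scheme.Opens.opensRange_ι]; exact inf_eq_right.2 hVU
    have h2 : (f ⁻¹ᵁ U).ι ''ᵁ ((f ⁻¹ᵁ U).ι ⁻¹ᵁ W.1) = W.1 := by
      rw [Scheme.Hom.image_preimage_eq_opensRange_inf, Scheme.Opens.opensRange_ι]; exact inf_eq_right.2 hWU
    rw [f.appLE_congr _ h1 h2 (fun φ => Q φ.hom)]
    exact hq

/-- **Generic flatness** over a reduced scheme. -/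
theorem exists_dense_flat {X S : Scheme.{u}} (f : X ⟶ S) [IsReduced S] [LocallyOfFiniteType f] [QuasiCompact f] :
    ∃ U : S.Opens, Dense (U : Set S) ∧ Flat (f ∣_ U) ∧ LocallyOfFinitePresentation (f ∣_ U) := by
  classical
  let Good : S.affineOpens → Prop := fun V => ∀ x : X, f x ∈ V.1 → ∃ (W : X.affineOpens) (_ : x ∈ W.1)
    (e : W.1 ≤ f ⁻¹ᵁ V.1), (f.appLE V.1 W.1 e).hom.Flat ∧ (f.appLE V.1 W.1 e).hom.FinitePresentation
  let U : S.Opens := ⨆ V : {V : S.affineOpens // Good V}, V.1.1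
  have hU : ∀ x : X, f x ∈ U → ∃ (V : S.affineOpens) (W : X.affineOpens) (_ : V.1 ≤ U) (_ : x ∈ W.1)
      (e : W.1 ≤ f ⁻¹ᵁ V.1), (f.appLE V.1 W.1 e).hom.Flat ∧ (f.appLE V.1 W.1 e).hom.FinitePresentation := by
    intro x hx
    obtain ⟨⟨V, hV⟩, hxV⟩ := TopologicalSpace.Opens.mem_iSup.1 hx
    obtain ⟨W, hW, e, h⟩ := hV x hxV
    exact ⟨V, W, le_iSup (fun V : {V : S.affineOpens // Good V} => V.1.1) ⟨V, hV⟩, hW, e, h⟩
  refine ⟨U, ?_, restrict_of_exists_appLE (Q := RingHom.Flat)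
    (RingHom.Flat.stableUnderComposition.stableUnderCompositionWithLocalizationAway
      RingHom.Flat.holdsForLocalizationAway).1 f U fun x hx => ?_,
    restrict_of_exists_appLE (Q := RingHom.FinitePresentation)
    (RingHom.finitePresentation_stableUnderComposition.stableUnderCompositionWithLocalizationAway
      RingHom.finitePresentation_holdsForLocalizationAway).1 f U fun x hx => ?_⟩
  rotate_left
  · obtain ⟨V, W, h1, h2, e, h3, -⟩ := hU x hx; exact ⟨V, W, h1, h2, e, h3⟩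
  · obtain ⟨V, W, h1, h2, e, -, h3⟩ := hU x hx; exact ⟨V, W, h1, h2, e, h3⟩
  rw [dense_iff_inter_open]
  rintro O hO ⟨s, hs⟩
  obtain ⟨_, ⟨D, hD, rfl⟩, hsD, hDO⟩ := S.isBasis_affineOpens.exists_subset_of_mem_open hs hO
  have : _root_.IsReduced Γ(S, D) := IsReduced.component_reduced D
  -- finitely many affine opens of the preimage
  obtain ⟨F, hF⟩ : ∃ F : Finset X.affineOpens, ∀ x : X, f x ∈ D → ∃ W ∈ F, x ∈ W.1 ∧ W.1 ≤ f ⁻¹ᵁ D := by
    have hc : IsCompact ((f ⁻¹ᵁ D : X.Opens) : Set X) := f.isCompact_preimage hD.isCompact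
    obtain ⟨F, hF⟩ := hc.elim_finite_subcover
      (fun W : {W : X.affineOpens // W.1 ≤ f ⁻¹ᵁ D} => (W.1.1 : Set X)) (fun W => W.1.1.isOpen) (fun x hx => by
        obtain ⟨_, ⟨W, hW, rfl⟩, hxW, hWD⟩ := X.isBasis_affineOpens.exists_subset_of_mem_open hx (f ⁻¹ᵁ D).isOpen
        exact Set.mem_iUnion.2 ⟨⟨⟨W, hW⟩, hWD⟩, hxW⟩)
    refine ⟨F.image Subtype.val, fun x hx => ?_⟩
    obtain ⟨W, hW, hxW⟩ := Set.mem_iUnion₂.1 (hF hx)
    exact ⟨W.1, Finset.mem_image_of_mem _ hW, hxW, W.2⟩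
  have key : ∀ F' : Finset X.affineOpens, ∀ g : Γ(S, D), g ≠ 0 → ∃ c : Γ(S, D), g ∣ c ∧ c ≠ 0 ∧
      ∀ W ∈ F', ∀ e : W.1 ≤ f ⁻¹ᵁ D, ∃ d, d ∣ c ∧
        (Localization.awayMap (f.appLE D W.1 e).hom d).Flat ∧
          (Localization.awayMap (f.appLE D W.1 e).hom d).FinitePresentation := by
    intro F'
    induction F' using Finset.induction_on with
    | empty => exact fun g hg => ⟨g, dvd_rfl, hg, by simp⟩
    | insert W F' _ ih =>
      intro g hg
      obtain ⟨c, hgc, hc, hcF⟩ := ih g hg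
      by_cases he : W.1 ≤ f ⁻¹ᵁ D
      · have hft : (f.appLE D W.1 he).hom.FiniteType :=
          HasRingHomProperty.appLE @LocallyOfFiniteType f ‹_› ⟨D, hD⟩ W he
        let : Algebra Γ(S, D) Γ(X, W.1) := (f.appLE D W.1 he).hom.toAlgebra
        have : Algebra.FiniteType Γ(S, D) Γ(X, W.1) := hft
        obtain ⟨d, hcd, hd, hfree, -, hfp, -⟩ := exists_generic_freeness (R := Γ(S, D)) Γ(X, W.1) Γ(X, W.1) hc
        refine ⟨d, hgc.trans hcd, hd, fun W' hW' e => ?_⟩
        rcases Finset.mem_insert.1 hW' with rfl | hW'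
        · refine ⟨d, dvd_rfl, ?_, ?_⟩
          · refine awayMap_of_tensor RingHom.Flat RingHom.Flat.respectsIso Γ(X, W'.1) d ?_
            rw [RingHom.flat_algebraMap_iff]
            have : Module.Free (Localization.Away d) (TensorProduct Γ(S, D) (Localization.Away d) Γ(X, W'.1)) :=
              Module.Free.of_equiv ((IsLocalizedModule.isBaseChange (Submonoid.powers d) (Localization.Away d)
                (LocalizedModule.mkLinearMap (Submonoid.powers d) Γ(X, W'.1))).equiv).symm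
            infer_instance
          · exact finitePresentation_awayMap Γ(X, W'.1) d hfp
        · obtain ⟨d', hd', h⟩ := hcF W' hW' e
          exact ⟨d', hd'.trans hcd, h⟩
      · exact ⟨c, hgc, hc, fun W' hW' e => by
          rcases Finset.mem_insert.1 hW' with rfl | hW'
          · exact absurd e he
          · exact hcF W' hW' e⟩
  have : Nonempty D := ⟨⟨s, hsD⟩⟩
  have : Nontrivial Γ(S, D) := inferInstance
  obtain ⟨c, -, hc, hcF⟩ := key F 1 one_ne_zero
  have hgood : Good ⟨S.basicOpen c, hD.basicOpen c⟩ := by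
    intro x hx
    obtain ⟨W, hW, hxW, e⟩ := hF x (S.basicOpen_le c hx)
    obtain ⟨d, hdc, h1, h2⟩ := hcF W hW e
    let := hD.isLocalization_basicOpen d
    let := W.2.isLocalization_basicOpen (f.appLE D W.1 e d)
    have hle : S.basicOpen c ≤ S.basicOpen d := by
      obtain ⟨r, rfl⟩ := hdc
      rw [Scheme.basicOpen_mul]
      exact inf_le_left
    let U' : S.affineOpens := ⟨S.basicOpen d, hD.basicOpen d⟩
    let W' : X.affineOpens := ⟨X.basicOpen (f.appLE D W.1 e d), W.2.basicOpen _⟩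
    have e' : W'.1 ≤ f ⁻¹ᵁ U'.1 := by simp [U', W', Scheme.Hom.appLE]
    let r : Γ(S, U'.1) := S.presheaf.map (homOfLE (S.basicOpen_le d)).op c
    have hr : S.basicOpen r = S.basicOpen c := by
      rw [Scheme.basicOpen_res]; exact inf_eq_right.2 hle
    have hxW' : x ∈ X.basicOpen (f.appLE U'.1 W'.1 e' r) := by
      simp only [Scheme.Hom.appLE, CommRingCat.comp_apply, Scheme.basicOpen_res, W']
      refine ⟨⟨hxW, ?_⟩, ?_⟩
      · rw [← Scheme.preimage_basicOpen]; exact hle hx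
      · rw [← Scheme.preimage_basicOpen, hr]; exact hx
    have k1 : (f.appLE U'.1 W'.1 e').hom.Flat := by
      dsimp only [U', W']
      rw [IsAffineOpen.appLE_eq_away_map f hD W.2 e d, CommRingCat.hom_ofHom]
      exact (RingHom.Flat.respectsIso.isLocalization_away_iff _ _ _ _).1 h1
    have k2 : (f.appLE U'.1 W'.1 e').hom.FinitePresentation := by
      dsimp only [U', W']
      rw [IsAffineOpen.appLE_eq_away_map f hD W.2 e d, CommRingCat.hom_ofHom]
      exact (RingHom.finitePresentation_respectsIso.isLocalization_away_iff _ _ _ _).1 h2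
    have e2 : X.basicOpen (f.appLE U'.1 W'.1 e' r) ≤ f ⁻¹ᵁ S.basicOpen c := by
      rw [← hr]; simp [Scheme.Hom.appLE]
    refine ⟨⟨_, W'.2.basicOpen _⟩, hxW', e2, ?_⟩
    dsimp only
    exact ⟨(f.appLE_congr _ hr rfl (fun φ => φ.hom.Flat)).1 (appLE_basicOpen_of_appLE
        RingHom.Flat.isStableUnderBaseChange.localizationPreserves.away f U' W' e' k1 r),
      (f.appLE_congr _ hr rfl (fun φ => φ.hom.FinitePresentation)).1 (appLE_basicOpen_of_appLE
        RingHom.finitePresentation_isStableUnderBaseChange.localizationPreserves.away f U' W' e' k2 r)⟩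
  obtain ⟨t, ht⟩ : ∃ t, t ∈ S.basicOpen c := by
    by_contra! h
    exact hc ((basicOpen_eq_bot_iff c).1 (eq_bot_iff.2 fun t ht => absurd ht (h t)))
  exact ⟨t, hDO (S.basicOpen_le c ht),
    le_iSup (fun V : {V : S.affineOpens // Good V} => V.1.1) ⟨_, hgood⟩ ht⟩

end Groth.Agent.GenFree
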