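import Groth.Agent.GenFree.Noetherian
import Mathlib.LinearAlgebra.StdBasis
import Mathlib.RingTheory.MvPolynomial.Basic
import Mathlib.RingTheory.Polynomial.Basic
import Mathlib.RingTheory.FinitePresentation
import Mathlib.RingTheory.Localization.FractionRing
import Mathlib.RingTheory.Finiteness.Subalgebra
import Mathlib.LinearAlgebra.TensorProduct.RightExactness

/-!
# Generic freeness over reduced rings

Every nonzero `g` in a reduced ring has a nonzero multiple `f` after inverting which a finite module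
over a finitely generated algebra becomes finitely presented and free over the base.
-/

set_option autoImplicit false
set_option backward.isDefEq.respectTransparency false

universe u

open Submodule Finsupp

namespace Groth.Agent.GenFree

/-- A basis up to powers of `f` gives coordinates. -/
theorem exists_coord {R : Type u} [CommRing R] {M : Type u} [AddCommGroup M] [Module R M] {f : R} {ι : Type u}
    (v : ι → M) (hs : ∀ m, ∃ k : ℕ, f ^ k • m ∈ span R (Set.range v))
    (hi : ∀ l : ι →₀ R, linearCombination R v l = 0 → ∀ i, ∃ k : ℕ, f ^ k * l i = 0) :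
    ∃ φ : M →ₗ[R] (ι →₀ Localization.Away f), (∀ i, φ (v i) = Finsupp.single i 1) ∧
      ∀ m, φ m = 0 ↔ ∃ k : ℕ, f ^ k • m = 0 := by
  let c : (ι →₀ R) →ₗ[R] (ι →₀ Localization.Away f) :=
    Finsupp.mapRange.linearMap (Algebra.linearMap R (Localization.Away f))
  have hu : ∀ k : ℕ, IsUnit (algebraMap R (Localization.Away f) (f ^ k)) := fun k =>
    IsLocalization.map_units _ (⟨f ^ k, k, rfl⟩ : Submonoid.powers f)
  have hcancel : ∀ (k : ℕ) (y y' : ι →₀ Localization.Away f), f ^ k • y = f ^ k • y' → y = y' := fun k y y' h =>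
    Finsupp.ext fun i => (hu k).mul_left_cancel (by
      rw [← Algebra.smul_def, ← Algebra.smul_def, ← Finsupp.smul_apply, ← Finsupp.smul_apply, h])
  have hker : ∀ l, c l = 0 → ∃ K : ℕ, f ^ K • l = 0 := fun l hl => exists_uniform_pow l fun i => by
    have := DFunLike.congr_fun hl i
    simp only [c, Finsupp.mapRange.linearMap_apply, Finsupp.mapRange_apply, Algebra.linearMap_apply,
      Finsupp.coe_zero, Pi.zero_apply] at this
    obtain ⟨⟨_, k, rfl⟩, hk⟩ := (IsLocalization.map_eq_zero_iff (Submonoid.powers f) (Localization.Away f) _).1 this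
    exact ⟨k, hk⟩
  let P : M → (ι →₀ Localization.Away f) → Prop := fun m y =>
    ∃ (k : ℕ) (l : ι →₀ R), f ^ k • m = linearCombination R v l ∧ f ^ k • y = c l
  have huniq : ∀ m y y', P m y → P m y' → y = y' := by
    rintro m y y' ⟨k, l, h1, h2⟩ ⟨k', l', h1', h2'⟩
    have hz : linearCombination R v (f ^ k' • l - f ^ k • l') = 0 := by
      rw [map_sub, map_smul, map_smul, ← h1, ← h1', smul_comm, sub_self]
    obtain ⟨K, hK⟩ := exists_uniform_pow _ (hi _ hz)
    refine hcancel (K + (k + k')) y y' ?_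
    have e1 : f ^ (K + (k + k')) • y = c (f ^ K • f ^ k' • l) := by
      rw [map_smul, map_smul, ← h2, ← mul_smul, ← mul_smul, ← pow_add, ← pow_add]; congr 2; omega
    have e2 : f ^ (K + (k + k')) • y' = c (f ^ K • f ^ k • l') := by
      rw [map_smul, map_smul, ← h2', ← mul_smul, ← mul_smul, ← pow_add, ← pow_add]; congr 2; omega
    rw [e1, e2, show f ^ K • f ^ k' • l = f ^ K • f ^ k • l' by rwa [smul_sub, sub_eq_zero] at hK]
  have hex : ∀ m, ∃ y, P m y := fun m => by
    obtain ⟨k, hk⟩ := hs m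
    rw [← Finsupp.range_linearCombination] at hk
    obtain ⟨l, hl⟩ := hk
    refine ⟨((hu k).unit⁻¹ : (Localization.Away f)ˣ).1 • c l, k, l, hl.symm, ?_⟩
    rw [← algebraMap_smul (Localization.Away f) (f ^ k), smul_smul, IsUnit.mul_val_inv, one_smul]
  choose φ hφ using hex
  refine ⟨{ toFun := φ, map_add' := fun a b => ?_, map_smul' := fun r a => ?_ }, fun i => ?_, fun m => ⟨fun h => ?_, fun h => ?_⟩⟩
  · obtain ⟨k, l, h1, h2⟩ := hφ a
    obtain ⟨k', l', h1', h2'⟩ := hφ b
    refine huniq _ _ _ (hφ _) ⟨k + k', f ^ k' • l + f ^ k • l', ?_, ?_⟩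
    · rw [map_add, map_smul, map_smul, ← h1, ← h1', smul_add, pow_add, mul_smul, mul_smul, smul_comm]
    · rw [map_add, map_smul, map_smul, ← h2, ← h2', smul_add, pow_add, mul_smul, mul_smul, smul_comm]
  · obtain ⟨k, l, h1, h2⟩ := hφ a
    refine huniq _ _ _ (hφ _) ⟨k, r • l, ?_, ?_⟩
    · rw [map_smul, ← h1, smul_comm]
    · rw [map_smul, ← h2, RingHom.id_apply, smul_comm]
  · refine huniq _ _ _ (hφ _) ⟨0, Finsupp.single i 1, ?_, ?_⟩
    · rw [pow_zero, one_smul, linearCombination_single, one_smul]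
    · rw [pow_zero, one_smul]
      simp [c]
  · obtain ⟨k, l, h1, h2⟩ := hφ m
    replace h : φ m = 0 := h
    rw [h, smul_zero] at h2
    obtain ⟨K, hK⟩ := hker l h2.symm
    exact ⟨K + k, by rw [pow_add, mul_smul, h1, ← map_smul, hK, map_zero]⟩
  · obtain ⟨k, hk⟩ := h
    exact huniq m _ 0 (hφ m) ⟨k, 0, by rw [hk, map_zero], by rw [smul_zero, map_zero]⟩

section Poly

variable (R₀ R : Type u) [CommRing R₀] [CommRing R] [Algebra R₀ R] (k n : ℕ)

/-- Coefficient change on tuples of polynomials. -/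
noncomputable def coeffMap : (Fin k → MvPolynomial (Fin n) R₀) →ₗ[R₀] (Fin k → MvPolynomial (Fin n) R) :=
  LinearMap.pi fun i => (MvPolynomial.mapAlgHom (Algebra.ofId R₀ R)).toLinearMap ∘ₗ LinearMap.proj i

theorem coeffMap_apply (u : Fin k → MvPolynomial (Fin n) R₀) (i : Fin k) :
    coeffMap R₀ R k n u i = MvPolynomial.map (algebraMap R₀ R) (u i) := rfl

theorem coeffMap_smul (a : MvPolynomial (Fin n) R₀) (u : Fin k → MvPolynomial (Fin n) R₀) :
    coeffMap R₀ R k n (a • u) = MvPolynomial.map (algebraMap R₀ R) a • coeffMap R₀ R k n u := by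
  funext i
  simp [coeffMap_apply]

theorem coeffMap_mem_span {T : Set (Fin k → MvPolynomial (Fin n) R₀)} {u : Fin k → MvPolynomial (Fin n) R₀}
    (hu : u ∈ span (MvPolynomial (Fin n) R₀) T) :
    coeffMap R₀ R k n u ∈ span (MvPolynomial (Fin n) R) (coeffMap R₀ R k n '' T) := by
  induction hu using Submodule.span_induction with
  | mem y hy => exact subset_span ⟨y, hy, rfl⟩
  | zero => rw [map_zero]; exact zero_mem _
  | add a b _ _ ha hb => rw [map_add]; exact add_mem ha hb
  | smul a b _ hb => rw [coeffMap_smul]; exact Submodule.smul_mem _ _ hb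

/-- The monomial basis of tuples of polynomials. -/
noncomputable def tupleBasis (R : Type u) [CommRing R] (k n : ℕ) :
    Module.Basis (Σ _ : Fin k, (Fin n →₀ ℕ)) R (Fin k → MvPolynomial (Fin n) R) :=
  Pi.basis fun _ => MvPolynomial.basisMonomials (Fin n) R

theorem coeffMap_basis (p : Σ _ : Fin k, (Fin n →₀ ℕ)) :
    coeffMap R₀ R k n (tupleBasis R₀ k n p) = tupleBasis R k n p := by
  classical
  funext i
  simp only [coeffMap_apply, tupleBasis, Pi.basis_apply, MvPolynomial.coe_basisMonomials]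
  by_cases h : i = p.1
  · subst h; simp [MvPolynomial.map_monomial]
  · simp [h]

/-- Linear maps out of tuples of polynomials extend along a change of coefficients. -/
theorem exists_extend {P : Type u} [AddCommGroup P] [Module R P] [Module R₀ P] [IsScalarTower R₀ R P]
    (φ₀ : (Fin k → MvPolynomial (Fin n) R₀) →ₗ[R₀] P) (T : Set (Fin k → MvPolynomial (Fin n) R₀))
    (hT : ∀ u ∈ span (MvPolynomial (Fin n) R₀) T, φ₀ u = 0) :
    ∃ Φ : (Fin k → MvPolynomial (Fin n) R) →ₗ[R] P, (∀ u, Φ (coeffMap R₀ R k n u) = φ₀ u) ∧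
      ∀ u ∈ span (MvPolynomial (Fin n) R) (coeffMap R₀ R k n '' T), Φ u = 0 := by
  let Φ := (tupleBasis R k n).constr R (fun p => φ₀ (tupleBasis R₀ k n p))
  have hcomm : ∀ u, Φ (coeffMap R₀ R k n u) = φ₀ u := LinearMap.congr_fun
    (show (Φ.restrictScalars R₀) ∘ₗ coeffMap R₀ R k n = φ₀ from (tupleBasis R₀ k n).ext fun p => by
      rw [LinearMap.comp_apply, coeffMap_basis, LinearMap.restrictScalars_apply, Module.Basis.constr_basis])
  refine ⟨Φ, hcomm, ?_⟩
  have key : ∀ (a : MvPolynomial (Fin n) R) (u : Fin k → MvPolynomial (Fin n) R₀),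
      u ∈ span (MvPolynomial (Fin n) R₀) T → Φ (a • coeffMap R₀ R k n u) = 0 := by
    intro a u hu
    induction a using MvPolynomial.induction_on' with
    | monomial d r =>
      have : MvPolynomial.monomial d r • coeffMap R₀ R k n u =
          r • coeffMap R₀ R k n (MvPolynomial.monomial d (1 : R₀) • u) := by
        rw [coeffMap_smul, MvPolynomial.map_monomial, map_one, ← smul_assoc, MvPolynomial.smul_monomial,
          smul_eq_mul, mul_one]
      rw [this, map_smul, hcomm, hT _ (Submodule.smul_mem _ _ hu), smul_zero]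
    | add p q hp hq => rw [add_smul, map_add, hp, hq, add_zero]
  intro u hu
  refine Submodule.closure_induction (p := fun u _ => Φ u = 0) (map_zero _)
    (fun a b _ _ ha hb => by rw [map_add, ha, hb, add_zero]) ?_ hu
  rintro a _ ⟨y, hy, rfl⟩
  exact key a y (subset_span hy)

end Poly

section Main

theorem exists_gFree_quotient {R : Type u} [CommRing R] [IsReduced R] [IsNoetherianRing R] {k n : ℕ}
    (N : Submodule (MvPolynomial (Fin n) R) (Fin k → MvPolynomial (Fin n) R)) {g : R} (hg : g ≠ 0) :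
    ∃ f : R, g ∣ f ∧ f ≠ 0 ∧ GFree f ((Fin k → MvPolynomial (Fin n) R) ⧸ N) := by
  have : Module.Finite (MvPolynomial (Fin n) R) (MvPolynomial (Fin n) R) := Module.Finite.self _
  have : Module.Finite (MvPolynomial (Fin n) R) (Fin k → MvPolynomial (Fin n) R) := Module.Finite.pi
  have : Module.Finite (MvPolynomial (Fin n) R) ((Fin k → MvPolynomial (Fin n) R) ⧸ N) :=
    Module.Finite.of_surjective N.mkQ N.mkQ_surjective
  exact exists_gFree_of_isReduced (MvPolynomial (Fin n) R) _ hg

variable {R : Type u} [CommRing R] [IsReduced R] {k n : ℕ}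

/-- For finitely many relations, generic freeness by descent to a Noetherian ring. -/
theorem exists_gFree_span (T : Finset (Fin k → MvPolynomial (Fin n) R)) {g : R} (hg : g ≠ 0) :
    ∃ f : R, g ∣ f ∧ f ≠ 0 ∧
      GFree f ((Fin k → MvPolynomial (Fin n) R) ⧸ span (MvPolynomial (Fin n) R) (T : Set (Fin k → MvPolynomial (Fin n) R))) := by
  classical
  let C : Finset R := insert g (T.biUnion fun t => Finset.univ.biUnion fun j => (t j).coeffs)
  let R₀ := Algebra.adjoin ℤ (C : Set R)
  have : Algebra.FiniteType ℤ R₀ := (Subalgebra.fg_iff_finiteType _).1 (Subalgebra.fg_adjoin_finset C)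
  have : IsNoetherianRing R₀ := Algebra.FiniteType.isNoetherianRing ℤ R₀
  have : IsReduced R₀ := isReduced_of_injective R₀.val Subtype.val_injective
  let g₀ : R₀ := ⟨g, Algebra.subset_adjoin (Finset.mem_insert_self _ _)⟩
  let μ := coeffMap R₀ R k n
  let A₀ := MvPolynomial (Fin n) R₀
  have hlift : ∀ t ∈ T, ∃ t₀, μ t₀ = t := by
    intro t ht
    have : ∀ j, ∃ p : A₀, MvPolynomial.map (algebraMap R₀ R) p = t j := fun j => by
      refine MvPolynomial.mem_range_map_iff_coeffs_subset.2 fun c hc => ?_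
      exact ⟨⟨c, Algebra.subset_adjoin (Finset.mem_insert_of_mem (Finset.mem_biUnion.2
        ⟨t, ht, Finset.mem_biUnion.2 ⟨j, Finset.mem_univ _, hc⟩⟩))⟩, rfl⟩
    choose p hp using this
    exact ⟨p, funext hp⟩
  choose t₀ ht₀ using hlift
  let T₀ : Set (Fin k → A₀) := Set.range fun t : T => t₀ t.1 t.2
  let N₀ := span A₀ T₀
  have hN : span (MvPolynomial (Fin n) R) (μ '' T₀) =
      span (MvPolynomial (Fin n) R) (T : Set (Fin k → MvPolynomial (Fin n) R)) := by
    congr 1
    ext x
    exact ⟨fun ⟨_, ⟨t, ht⟩, hx⟩ => by rw [← hx, ← ht, ht₀]; exact t.2,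
      fun hx => ⟨_, ⟨⟨x, hx⟩, rfl⟩, ht₀ x hx⟩⟩
  obtain ⟨f₀, hgf, hf₀, ι, q, hqs, hqi⟩ := exists_gFree_quotient (R := R₀) N₀
    (g := g₀) (fun h => hg (congrArg Subtype.val h))
  let f : R := f₀.1
  obtain ⟨e, he⟩ := hgf
  refine ⟨f, ⟨e.1, congrArg Subtype.val he⟩, fun h => hf₀ (Subtype.ext h), ι, ?_⟩
  choose w hw using fun i => N₀.mkQ_surjective (q i)
  let N := span (MvPolynomial (Fin n) R) (T : Set (Fin k → MvPolynomial (Fin n) R))
  have hμN : ∀ u ∈ N₀, μ u ∈ N := fun u hu => by
    have := coeffMap_mem_span R₀ R k n hu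
    rwa [hN] at this
  refine ⟨fun i => N.mkQ (μ (w i)), fun m => ?_, fun l hl i => ?_⟩
  · obtain ⟨m, rfl⟩ := N.mkQ_surjective m
    -- the set of elements in the saturation of the span
    let U : Submodule R (Fin k → MvPolynomial (Fin n) R) :=
      { carrier := {u | ∃ j : ℕ, f ^ j • N.mkQ u ∈ span R (Set.range fun i => N.mkQ (μ (w i)))}
        zero_mem' := ⟨0, by simp⟩
        add_mem' := fun {a b} ⟨i, hi⟩ ⟨j, hj⟩ => ⟨i + j, by
          rw [map_add, smul_add]
          refine add_mem ?_ ?_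
          · rw [add_comm, pow_add, mul_smul]; exact Submodule.smul_mem _ _ hi
          · rw [pow_add, mul_smul]; exact Submodule.smul_mem _ _ hj⟩
        smul_mem' := fun r a ⟨i, hi⟩ => ⟨i, by
          rw [LinearMap.map_smul_of_tower, smul_comm]; exact Submodule.smul_mem _ _ hi⟩ }
    suffices U = ⊤ from (this.symm ▸ Submodule.mem_top : m ∈ U)
    rw [eq_top_iff, ← (tupleBasis R k n).span_eq, Submodule.span_le]
    rintro _ ⟨p, rfl⟩
    obtain ⟨j, hj⟩ := hqs (N₀.mkQ (tupleBasis R₀ k n p))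
    rw [← Finsupp.range_linearCombination] at hj
    obtain ⟨l, hl⟩ := hj
    have hd : f₀ ^ j • tupleBasis R₀ k n p - linearCombination R₀ w l ∈ N₀ := by
      rw [← Submodule.Quotient.mk_eq_zero, ← Submodule.mkQ_apply, map_sub, LinearMap.map_smul_of_tower]
      rw [sub_eq_zero, ← hl]
      rw [show q = N₀.mkQ ∘ w from funext fun i => (hw i).symm]
      exact (apply_linearCombination R₀ (N₀.mkQ.restrictScalars R₀) w l).symm
    have hd' := hμN _ hd
    rw [map_sub, map_smul, coeffMap_basis] at hd'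
    refine ⟨j, ?_⟩
    rw [← Submodule.Quotient.mk_eq_zero, ← Submodule.mkQ_apply, map_sub, sub_eq_zero] at hd'
    have hfb : f ^ j • tupleBasis R k n p = f₀ ^ j • tupleBasis R k n p := by
      rw [← algebraMap_smul R (f₀ ^ j)]; rfl
    rw [← LinearMap.map_smul_of_tower, hfb, hd']
    rw [linearCombination_apply, Finsupp.sum, map_sum, map_sum]
    refine Submodule.sum_mem _ fun i _ => ?_
    rw [map_smul, ← algebraMap_smul R (l i), LinearMap.map_smul_of_tower]
    exact Submodule.smul_mem _ _ (subset_span ⟨i, rfl⟩)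
  · obtain ⟨φ₀, hφv, -⟩ := exists_coord q hqs hqi
    have hu : IsUnit (algebraMap R₀ (Localization.Away f) f₀) := IsLocalization.Away.algebraMap_isUnit f
    let incl : Localization.Away f₀ →ₗ[R₀] Localization.Away f :=
      { toFun := IsLocalization.Away.lift f₀ hu
        map_add' := map_add _
        map_smul' := fun r x => by
          rw [Algebra.smul_def, map_mul, IsLocalization.Away.lift_eq, RingHom.id_apply, ← Algebra.smul_def] }
    let ψ : (Fin k → A₀) →ₗ[R₀] (ι →₀ Localization.Away f) :=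
      Finsupp.mapRange.linearMap incl ∘ₗ φ₀ ∘ₗ N₀.mkQ.restrictScalars R₀
    obtain ⟨Φ, hΦ, hΦN⟩ := exists_extend R₀ R k n ψ T₀ fun u hu => by
      have : N₀.mkQ u = 0 := (Submodule.Quotient.mk_eq_zero _).2 hu
      change Finsupp.mapRange.linearMap incl (φ₀ (N₀.mkQ u)) = 0
      rw [this, map_zero, map_zero]
    have hΦw : ∀ i, Φ (μ (w i)) = Finsupp.single i 1 := fun i => by
      rw [hΦ]
      change Finsupp.mapRange.linearMap incl (φ₀ (N₀.mkQ (w i))) = _
      rw [hw, hφv]
      rw [Finsupp.mapRange.linearMap_apply, Finsupp.mapRange_single]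
      exact congrArg (Finsupp.single i) (map_one (IsLocalization.Away.lift f₀ hu))
    have hmem : linearCombination R (fun i => μ (w i)) l ∈ N := by
      rw [← Submodule.Quotient.mk_eq_zero, ← Submodule.mkQ_apply, ← hl]
      exact apply_linearCombination R (N.mkQ.restrictScalars R) _ l
    have h0 : Φ (linearCombination R (fun i => μ (w i)) l) = 0 := hΦN _ (by rw [hN]; exact hmem)
    rw [apply_linearCombination, show Φ ∘ (fun i => μ (w i)) = fun i => Finsupp.single i 1 from funext hΦw,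
      linearCombination_apply] at h0
    have hi0 : algebraMap R (Localization.Away f) (l i) = 0 := by
      have := DFunLike.congr_fun h0 i
      rw [Finsupp.sum, Finsupp.finsetSum_apply, Finsupp.coe_zero, Pi.zero_apply] at this
      rw [← this]
      rw [Finset.sum_eq_single i (fun b _ hb => by simp [Finsupp.single_eq_of_ne' hb])
        (fun hi => by simp [Finsupp.notMem_support_iff.1 hi])]
      simp [Algebra.smul_def]
    obtain ⟨⟨_, j, rfl⟩, hj⟩ := (IsLocalization.map_eq_zero_iff (Submonoid.powers f) _ _).1 hi0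
    exact ⟨j, hj⟩

/-- Adding a relation that is not yet implied strictly increases all fibres over an open set. -/
theorem exists_gFree_or_step (W : Submodule (MvPolynomial (Fin n) R) (Fin k → MvPolynomial (Fin n) R))
    (T : Finset (Fin k → MvPolynomial (Fin n) R)) (hT : (T : Set (Fin k → MvPolynomial (Fin n) R)) ⊆ W)
    {g : R} (hg : g ≠ 0) :
    (∃ f : R, g ∣ f ∧ f ≠ 0 ∧
      (∀ w ∈ W, ∃ j : ℕ, f ^ j • w ∈ span (MvPolynomial (Fin n) R) (T : Set (Fin k → MvPolynomial (Fin n) R))) ∧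
      GFree f ((Fin k → MvPolynomial (Fin n) R) ⧸ W)) ∨
    ∃ (g' : R) (T' : Finset (Fin k → MvPolynomial (Fin n) R)), g ∣ g' ∧ g' ≠ 0 ∧ T ⊆ T' ∧
      (T' : Set (Fin k → MvPolynomial (Fin n) R)) ⊆ W ∧
      ∀ (κ : Type u) [Field κ] [Algebra R κ], algebraMap R κ g' ≠ 0 →
        ∃ w ∈ T', coeffMap R κ k n w ∉ span (MvPolynomial (Fin n) κ) (coeffMap R κ k n '' (T : Set (Fin k → MvPolynomial (Fin n) R))) := by
  classical
  obtain ⟨f, hgf, hf, ι, v, hs, hi⟩ := exists_gFree_span T hg
  obtain ⟨φ, hφv, hφ0⟩ := exists_coord v hs hi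
  let N := span (MvPolynomial (Fin n) R) (T : Set (Fin k → MvPolynomial (Fin n) R))
  by_cases hall : ∀ w ∈ W, φ (N.mkQ w) = 0
  · left
    have hsat : ∀ w ∈ W, ∃ j : ℕ, f ^ j • w ∈ N := fun w hw => by
      obtain ⟨j, hj⟩ := (hφ0 _).1 (hall w hw)
      exact ⟨j, (Submodule.Quotient.mk_eq_zero N).1 (by rw [← Submodule.mkQ_apply, LinearMap.map_smul_of_tower]; exact hj)⟩
    refine ⟨f, hgf, hf, hsat, ι, ?_⟩
    let π : ((Fin k → MvPolynomial (Fin n) R) ⧸ N) →ₗ[R] ((Fin k → MvPolynomial (Fin n) R) ⧸ W) :=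
      (Submodule.mapQ N W LinearMap.id (Submodule.span_le.2 hT)).restrictScalars R
    have hπ : Function.Surjective π := fun x => by
      obtain ⟨x, rfl⟩ := W.mkQ_surjective x
      exact ⟨N.mkQ x, rfl⟩
    refine ⟨π ∘ v, fun m => ?_, fun l hl i => ?_⟩
    · obtain ⟨m, rfl⟩ := hπ m
      obtain ⟨j, hj⟩ := hs m
      refine ⟨j, ?_⟩
      rw [← map_smul, Set.range_comp, Submodule.span_image]
      exact ⟨_, hj, rfl⟩
    · rw [← apply_linearCombination] at hl
      obtain ⟨x, hx⟩ := N.mkQ_surjective (linearCombination R v l)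
      rw [← hx] at hl
      obtain ⟨j, hj⟩ := hsat x ((Submodule.Quotient.mk_eq_zero W).1 hl)
      have h0 : linearCombination R v (f ^ j • l) = 0 := by
        rw [map_smul, ← hx, ← LinearMap.map_smul_of_tower, Submodule.mkQ_apply, Submodule.Quotient.mk_eq_zero]
        exact hj
      obtain ⟨j', hj'⟩ := hi _ h0 i
      exact ⟨j' + j, by rw [pow_add, mul_assoc]; simpa using hj'⟩
  · right
    push Not at hall
    obtain ⟨w, hw, hne⟩ := hall
    obtain ⟨i, hi'⟩ : ∃ i, φ (N.mkQ w) i ≠ 0 := by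
      by_contra! h
      exact hne (Finsupp.ext h)
    obtain ⟨⟨r, ⟨_, m, rfl⟩⟩, hrm⟩ := IsLocalization.surj (Submonoid.powers f) (φ (N.mkQ w) i)
    simp only at hrm
    have hfr : f * r ≠ 0 := fun h => hi' (by
      have h1 : algebraMap R (Localization.Away f) r = 0 :=
        (IsLocalization.map_eq_zero_iff (Submonoid.powers f) _ _).2 ⟨⟨f, 1, pow_one f⟩, h⟩
      rw [h1] at hrm
      exact (IsLocalization.map_units _ (⟨f ^ m, m, rfl⟩ : Submonoid.powers f)).mul_left_eq_zero.1 hrm)
    refine ⟨f * r, insert w T, hgf.mul_right r, hfr, Finset.subset_insert _ _,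
      by rw [Finset.coe_insert]; exact Set.insert_subset hw hT, ?_⟩
    intro κ _ _ hκ
    refine ⟨w, Finset.mem_insert_self _ _, fun hmem => ?_⟩
    rw [map_mul] at hκ
    have hu : IsUnit (algebraMap R κ f) := (left_ne_zero_of_mul hκ).isUnit
    let ψ := IsLocalization.Away.lift (S := Localization.Away f) f hu
    let ψl : Localization.Away f →ₗ[R] κ :=
      { toFun := ψ
        map_add' := map_add _
        map_smul' := fun r x => by
          rw [Algebra.smul_def, map_mul, IsLocalization.Away.lift_eq, RingHom.id_apply, ← Algebra.smul_def] }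
    let χ : (Fin k → MvPolynomial (Fin n) R) →ₗ[R] κ :=
      ψl ∘ₗ Finsupp.lapply i ∘ₗ φ ∘ₗ N.mkQ.restrictScalars R
    obtain ⟨Φ, hΦ, hΦN⟩ := exists_extend R κ k n χ (T : Set _) fun u hu => by
      have : N.mkQ u = 0 := (Submodule.Quotient.mk_eq_zero _).2 hu
      change ψl ((Finsupp.lapply i : (ι →₀ Localization.Away f) →ₗ[R] _) (φ (N.mkQ u))) = 0
      rw [this, map_zero, map_zero, map_zero]
    have h0 : χ w = 0 := (hΦ w).symm.trans (hΦN _ hmem)
    replace h0 : ψ (φ (N.mkQ w) i) = 0 := h0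
    have := congrArg ψ hrm
    rw [map_mul, h0, zero_mul, IsLocalization.Away.lift_eq] at this
    exact right_ne_zero_of_mul hκ this.symm

/-- **Generic freeness** over a reduced ring, for a presentation. -/
theorem exists_gFree_presentation (W : Submodule (MvPolynomial (Fin n) R) (Fin k → MvPolynomial (Fin n) R))
    {g : R} (hg : g ≠ 0) :
    ∃ (f : R) (T : Finset (Fin k → MvPolynomial (Fin n) R)), g ∣ f ∧ f ≠ 0 ∧
      (T : Set (Fin k → MvPolynomial (Fin n) R)) ⊆ W ∧
      (∀ w ∈ W, ∃ j : ℕ, f ^ j • w ∈ span (MvPolynomial (Fin n) R) (T : Set (Fin k → MvPolynomial (Fin n) R))) ∧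
      GFree f ((Fin k → MvPolynomial (Fin n) R) ⧸ W) := by
  classical
  by_contra! hcon
  let St := {p : R × Finset (Fin k → MvPolynomial (Fin n) R) //
    g ∣ p.1 ∧ p.1 ≠ 0 ∧ (p.2 : Set (Fin k → MvPolynomial (Fin n) R)) ⊆ W}
  have hstep : ∀ s : St, ∃ s' : St, s.1.1 ∣ s'.1.1 ∧ s.1.2 ⊆ s'.1.2 ∧
      ∀ (κ : Type u) [Field κ] [Algebra R κ], algebraMap R κ s'.1.1 ≠ 0 →
        ∃ w ∈ s'.1.2, coeffMap R κ k n w ∉ span (MvPolynomial (Fin n) κ)
          (coeffMap R κ k n '' (s.1.2 : Set (Fin k → MvPolynomial (Fin n) R))) := by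
    rintro ⟨⟨g₁, T⟩, hdvd, hg₁, hT⟩
    rcases exists_gFree_or_step W T hT hg₁ with ⟨f, hd, hf, hsat, hfree⟩ | ⟨g', T', hd, hg', hsub, hT', hκ⟩
    · exact absurd hfree (hcon f T (hdvd.trans hd) hf hT hsat)
    · exact ⟨⟨⟨g', T'⟩, hdvd.trans hd, hg', hT'⟩, hd, hsub, hκ⟩
  choose next hd hsub hκ using hstep
  let s : ℕ → St := fun i => next^[i] ⟨⟨g, ∅⟩, dvd_rfl, hg, by simp⟩
  have hs : ∀ i, s (i + 1) = next (s i) := fun i => Function.iterate_succ_apply' _ _ _
  have hmono : ∀ {i j}, i ≤ j → (s i).1.1 ∣ (s j).1.1 := fun {i j} h => by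
    induction h with
    | refl => exact dvd_rfl
    | step _ ih => rw [hs]; exact ih.trans (hd _)
  -- a prime containing none of the `g i`
  let S : Submonoid R :=
    { carrier := {x | ∃ i m : ℕ, x ∣ (s i).1.1 ^ m}
      one_mem' := ⟨0, 0, one_dvd _⟩
      mul_mem' := fun {a b} ⟨i, m, ha⟩ ⟨j, m', hb⟩ => ⟨max i j, m + m', by
        rw [pow_add]
        exact mul_dvd_mul (ha.trans (pow_dvd_pow_of_dvd (hmono (le_max_left i j)) m))
          (hb.trans (pow_dvd_pow_of_dvd (hmono (le_max_right i j)) m'))⟩ }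
  have hdis : Disjoint ((⊥ : Ideal R) : Set R) S := by
    rw [Set.disjoint_left]
    rintro x hx ⟨i, m, hm⟩
    rw [SetLike.mem_coe, Ideal.mem_bot] at hx
    subst hx
    exact (s i).2.2.1 (IsReduced.eq_zero _ ⟨m, zero_dvd_iff.1 hm⟩)
  obtain ⟨q, hq, -, hqS⟩ := Ideal.exists_le_prime_disjoint ⊥ S hdis
  let κ := FractionRing (R ⧸ q)
  have hne : ∀ i, algebraMap R κ (s i).1.1 ≠ 0 := fun i h => by
    rw [IsScalarTower.algebraMap_apply R (R ⧸ q) κ, ← map_zero (algebraMap (R ⧸ q) κ)] at h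
    exact (Set.disjoint_left.1 hqS (Ideal.Quotient.eq_zero_iff_mem.1 (IsFractionRing.injective (R ⧸ q) κ h)))
      ⟨i, 1, by rw [pow_one]⟩
  let U : ℕ →o Submodule (MvPolynomial (Fin n) κ) (Fin k → MvPolynomial (Fin n) κ) :=
    ⟨fun i => span _ (coeffMap R κ k n '' ((s i).1.2 : Set (Fin k → MvPolynomial (Fin n) R))),
      monotone_nat_of_le_succ fun i => span_mono (Set.image_mono (by rw [hs]; exact_mod_cast hsub _))⟩
  obtain ⟨I, hI⟩ := monotone_stabilizes_iff_noetherian.2
    (inferInstance : IsNoetherian (MvPolynomial (Fin n) κ) (Fin k → MvPolynomial (Fin n) κ)) U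
  obtain ⟨w, hw, hnot⟩ := hκ (s I) κ (by rw [← hs]; exact hne _)
  apply hnot
  have : coeffMap R κ k n w ∈ U (I + 1) := subset_span ⟨w, by rw [hs]; exact hw, rfl⟩
  rwa [← hI (I + 1) I.le_succ] at this

end Main

end Groth.Agent.GenFree
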