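import Mathlib.RingTheory.Finiteness.Basic
import Mathlib.RingTheory.FiniteType
import Mathlib.RingTheory.Localization.BaseChange
import Mathlib.RingTheory.Ideal.MinimalPrime.Noetherian
import Mathlib.Algebra.Module.LocalizedModule.Away
import Mathlib.LinearAlgebra.LinearIndependent.Lemmas
import Mathlib.RingTheory.Nilpotent.Lemmas
import Mathlib.RingTheory.LocalProperties.Projective
import Mathlib.Algebra.Module.Torsion.Basic
import Mathlib.RingTheory.Ideal.Quotient.Operations
import Mathlib.RingTheory.Ideal.Quotient.Noetherian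

/-!
# Generic freeness over Noetherian reduced rings

`GFree f M` says that `M` has a family which is a basis up to powers of `f`.
-/

set_option autoImplicit false
set_option backward.isDefEq.respectTransparency false

universe u

open Submodule Finsupp

namespace Groth.Agent.GenFree

variable {R : Type u} [CommRing R] {M : Type u} [AddCommGroup M] [Module R M]

/-- `M` becomes free after inverting `f`, phrased by elements. -/
def GFree (f : R) (M : Type u) [AddCommGroup M] [Module R M] : Prop :=
  ∃ (ι : Type u) (v : ι → M), (∀ m, ∃ k : ℕ, f ^ k • m ∈ span R (Set.range v)) ∧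
    ∀ l : ι →₀ R, linearCombination R v l = 0 → ∀ i, ∃ k : ℕ, f ^ k * l i = 0

theorem exists_uniform_pow {ι : Type*} {f : R} (l : ι →₀ R) (h : ∀ i, ∃ k : ℕ, f ^ k * l i = 0) :
    ∃ k : ℕ, f ^ k • l = 0 := by
  choose k hk using h
  refine ⟨l.support.sup k, Finsupp.ext fun i => ?_⟩
  by_cases hi : i ∈ l.support
  · obtain ⟨d, hd⟩ := Nat.exists_eq_add_of_le (Finset.le_sup (f := k) hi)
    rw [Finsupp.smul_apply, hd, smul_eq_mul, Finsupp.zero_apply, pow_add, mul_comm (f ^ k i), mul_assoc, hk i,
      mul_zero]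
  · simp [Finsupp.notMem_support_iff.1 hi]

theorem GFree.mono {f g : R} (h : GFree f M) (hd : f ∣ g) : GFree g M := by
  obtain ⟨ι, v, hs, hi⟩ := h
  obtain ⟨e, rfl⟩ := hd
  refine ⟨ι, v, fun m => ?_, fun l hl i => ?_⟩
  · obtain ⟨k, hk⟩ := hs m
    exact ⟨k, by rw [mul_pow, mul_comm, mul_smul]; exact Submodule.smul_mem _ _ hk⟩
  · obtain ⟨k, hk⟩ := hi l hl i
    exact ⟨k, by rw [mul_pow, mul_right_comm, hk, zero_mul]⟩

/-- Gluing bases along an exhaustive filtration. -/
theorem GFree.of_filtration {f : R} (F : ℕ → Submodule R M) (h0 : F 0 = ⊥) (hmono : Monotone F)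
    (htop : ∀ m, ∃ i, m ∈ F i) {J : ℕ → Type u} (v : ∀ i, J i → M) (hmem : ∀ i j, v i j ∈ F (i + 1))
    (hspan : ∀ i, ∀ m ∈ F (i + 1), ∃ k : ℕ, f ^ k • m ∈ span R (Set.range (v i)) ⊔ F i)
    (hind : ∀ i (l : J i →₀ R), linearCombination R (v i) l ∈ F i → ∀ j, ∃ k : ℕ, f ^ k * l j = 0) :
    GFree f M := by
  refine ⟨Σ i, J i, fun p => v p.1 p.2, fun m => ?_, ?_⟩
  · obtain ⟨n, hn⟩ := htop m
    induction n generalizing m with
    | zero =>
      rw [h0, Submodule.mem_bot] at hn
      exact ⟨0, by rw [hn, smul_zero]; exact Submodule.zero_mem _⟩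
    | succ n ih =>
      obtain ⟨k, hk⟩ := hspan n m hn
      obtain ⟨a, ha, b, hb, hab⟩ := Submodule.mem_sup.1 hk
      obtain ⟨k', hk'⟩ := ih b hb
      refine ⟨k' + k, ?_⟩
      rw [pow_add, mul_smul, ← hab, smul_add]
      refine Submodule.add_mem _ (Submodule.smul_mem _ _ (span_mono ?_ ha)) hk'
      rintro _ ⟨j, rfl⟩
      exact ⟨⟨n, j⟩, rfl⟩
  · suffices H : ∀ N, ∀ l : (Σ i, J i) →₀ R, (∀ p ∈ l.support, p.1 < N) →
        linearCombination R (fun p : Σ i, J i => v p.1 p.2) l = 0 → ∀ p, ∃ k : ℕ, f ^ k * l p = 0 from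
      fun l hl => H (l.support.sup (fun p => p.1) + 1) l
        (fun p hp => Nat.lt_succ_of_le (Finset.le_sup (f := fun p : Σ i, J i => p.1) hp)) hl
    intro N
    induction N with
    | zero =>
      intro l hl _ p
      exact ⟨0, by
        rw [Finsupp.notMem_support_iff.1 fun hp => Nat.not_lt_zero _ (hl p hp), mul_zero]⟩
    | succ N ih =>
      intro l hl hz
      have hsplit : l = (l.filter (fun p => p.1 < N)) + (l.split N).mapDomain (fun j => ⟨N, j⟩) := by
        ext ⟨i, j⟩
        rcases lt_trichotomy i N with h | rfl | h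
        · rw [Finsupp.add_apply, Finsupp.filter_apply_pos (fun p : Σ i, J i => p.1 < N) l (a := ⟨i, j⟩) h,
            Finsupp.mapDomain_of_notMem_range, add_zero]
          rintro ⟨j', hj'⟩
          exact h.ne (congrArg Sigma.fst hj').symm
        · rw [Finsupp.add_apply,
            Finsupp.filter_apply_neg (fun p : Σ i', J i' => p.1 < i) l (a := ⟨i, j⟩) (lt_irrefl i),
            Finsupp.mapDomain_apply sigma_mk_injective, zero_add, Finsupp.split_apply]
        · have : l ⟨i, j⟩ = 0 := by
            rw [← Finsupp.notMem_support_iff]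
            exact fun hp => absurd (hl _ hp) (by simp only; omega)
          rw [Finsupp.add_apply,
            Finsupp.filter_apply_neg (fun p : Σ i', J i' => p.1 < N) l (a := ⟨i, j⟩) (by simp only; omega),
            Finsupp.mapDomain_of_notMem_range, add_zero, this]
          rintro ⟨j', hj'⟩
          exact h.ne (congrArg Sigma.fst hj')
      have hlow : linearCombination R (fun p : Σ i, J i => v p.1 p.2) (l.filter (fun p => p.1 < N)) ∈ F N := by
        rw [linearCombination_apply]
        refine Submodule.sum_mem _ fun p hp => Submodule.smul_mem _ _ ?_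
        rw [Finsupp.support_filter, Finset.mem_filter] at hp
        exact hmono (Nat.succ_le_of_lt hp.2) (hmem p.1 p.2)
      have htopcoef : ∀ j, ∃ k : ℕ, f ^ k * l.split N j = 0 := by
        refine hind N (l.split N) ?_
        rw [hsplit, map_add, linearCombination_mapDomain] at hz
        rw [show linearCombination R (v N) (l.split N) =
          -linearCombination R (fun p : Σ i, J i => v p.1 p.2) (l.filter (fun p => p.1 < N)) from
            eq_neg_of_add_eq_zero_right hz]
        exact neg_mem hlow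
      obtain ⟨K, hK⟩ := exists_uniform_pow _ htopcoef
      intro p
      have hlt : ∀ q ∈ (f ^ K • l).support, q.1 < N := by
        intro q hq
        rcases (Nat.lt_succ_iff_lt_or_eq.1 (hl q (Finsupp.support_smul hq))) with h | h
        · exact h
        · exfalso
          obtain ⟨i, j⟩ := q
          simp only at h
          subst h
          rw [Finsupp.mem_support_iff, Finsupp.smul_apply, ← Finsupp.split_apply, ← Finsupp.smul_apply, hK] at hq
          exact hq rfl
      obtain ⟨k, hk⟩ := ih (f ^ K • l) hlt (by rw [map_smul, hz, smul_zero]) p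
      exact ⟨k + K, by rw [pow_add, mul_assoc]; simpa using hk⟩

/-- Finite modules over a domain are generically free. -/
theorem exists_gFree_finite [IsDomain R] [Module.Finite R M] : ∃ f : R, f ≠ 0 ∧ GFree f M := by
  classical
  obtain ⟨n, g, hg⟩ := Module.Finite.exists_fin (R := R) (M := M)
  obtain ⟨s, hs, hmax⟩ := exists_maximal_linearIndepOn R g
  have h2 : ∀ i, ∃ a : R, a ≠ 0 ∧ a • g i ∈ span R (g '' s) := fun i => by
    by_cases hi : i ∈ s
    · exact ⟨1, one_ne_zero, by rw [one_smul]; exact subset_span ⟨i, hi, rfl⟩⟩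
    · exact hmax i hi
  choose a ha hmem using h2
  refine ⟨∏ i, a i, Finset.prod_ne_zero_iff.2 fun i _ => ha i, ULift.{u} s, fun i => g i.down.1, ?_, ?_⟩
  · intro m
    refine ⟨1, ?_⟩
    have hr : Set.range (fun i : ULift.{u} s => g i.down.1) = g '' s :=
      Set.ext fun x => ⟨fun ⟨⟨i, hi⟩, e⟩ => ⟨i, hi, e⟩, fun ⟨i, hi, e⟩ => ⟨⟨i, hi⟩, e⟩⟩
    rw [hr, pow_one]
    have : (span R (Set.range g)).map ((∏ i, a i) • LinearMap.id) ≤ span R (g '' s) := by
      rw [Submodule.map_span, Submodule.span_le]
      rintro _ ⟨_, ⟨i, rfl⟩, rfl⟩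
      rw [LinearMap.smul_apply, LinearMap.id_apply, ← Finset.prod_erase_mul _ _ (Finset.mem_univ i), mul_smul]
      exact Submodule.smul_mem _ _ (hmem i)
    exact this ⟨m, hg ▸ Submodule.mem_top, rfl⟩
  · intro l hl i
    have hli : LinearIndependent R (fun i : ULift.{u} s => g i.down.1) :=
      (hs.linearIndependent).comp _ ULift.down_injective
    exact ⟨0, by rw [linearIndependent_iff.1 hli l hl]; simp⟩

theorem exists_gFree_of_generators [IsDomain R] [IsNoetherianRing R] (n : ℕ) :
    ∀ (S : Type u) [CommRing S] [Algebra R S] (g : Fin n → S), Algebra.adjoin R (Set.range g) = ⊤ →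
    ∀ (M : Type u) [AddCommGroup M] [Module S M] [Module R M] [IsScalarTower R S M] [Module.Finite S M],
      ∃ f : R, f ≠ 0 ∧ GFree f M := by
  induction n with
  | zero =>
    intro S _ _ g hg M _ _ _ _ _
    have hsurj : Function.Surjective (algebraMap R S) := fun s => by
      have : s ∈ Algebra.adjoin R (Set.range g) := hg ▸ Algebra.mem_top
      rw [Set.range_eq_empty, Algebra.adjoin_empty, Algebra.mem_bot] at this
      exact this
    have : Module.Finite R S := Module.Finite.of_surjective (Algebra.linearMap R S) hsurj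
    have : Module.Finite R M := Module.Finite.trans S M
    exact exists_gFree_finite
  | succ n ih =>
    intro S _ _ g hg M _ _ _ _ _
    classical
    let P := Algebra.adjoin R (Set.range fun i : Fin n => g i.castSucc)
    let x : S := g (Fin.last n)
    have hP : Algebra.adjoin R (Set.range fun i : Fin n => (⟨g i.castSucc, Algebra.subset_adjoin ⟨i, rfl⟩⟩ : P)) = ⊤ := by
      apply Subalgebra.map_injective (f := P.val) Subtype.val_injective
      rw [AlgHom.map_adjoin, ← Set.range_comp, Algebra.map_top, Subalgebra.range_val]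
      rfl
    have : Algebra.FiniteType R P := ⟨(Subalgebra.fg_def.2 ⟨_, Set.finite_range _, hP⟩)⟩
    have : IsNoetherianRing P := Algebra.FiniteType.isNoetherianRing R P
    obtain ⟨s, hs⟩ := ‹Module.Finite S M›.fg_top
    let N₁ : Submodule P M := span P (s : Set M)
    have : Module.Finite P N₁ := Module.Finite.span_of_finite P s.finite_toSet
    let X : M →ₗ[P] M := (LinearMap.lsmul S M x).restrictScalars P
    let F : ℕ → Submodule P M := fun i => ⨆ j ∈ Finset.range i, N₁.map (X ^ j)
    have hX : ∀ j m, (X ^ j) m = x ^ j • m := fun j m => by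
      induction j with
      | zero => simp
      | succ j ihj => rw [pow_succ', Module.End.mul_apply, ihj, pow_succ', mul_smul]; rfl
    have hF0 : F 0 = ⊥ := by simp [F]
    have hFmono : Monotone F := fun a b hab =>
      biSup_mono fun j hj => Finset.range_mono hab hj
    have hFle : ∀ {i j}, j < i → N₁.map (X ^ j) ≤ F i := fun {i j} h =>
      le_biSup (fun j => N₁.map (X ^ j)) (Finset.mem_range.2 h)
    have hFsucc : ∀ i, F (i + 1) = N₁.map (X ^ i) ⊔ F i := fun i => by
      simp only [F, Finset.range_add_one, Finset.iSup_insert]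
    have hXF : ∀ i m, m ∈ F i → x • m ∈ F (i + 1) := fun i m hm => by
      have : (F i).map X ≤ F (i + 1) := by
        simp only [F, Submodule.map_iSup, iSup_le_iff]
        intro j hj
        rw [← Submodule.map_comp, ← Module.End.mul_eq_comp, ← pow_succ']
        exact hFle (Nat.succ_lt_succ (Finset.mem_range.1 hj))
      exact this ⟨m, hm, rfl⟩
    -- exhaustion
    have hUnion : ∀ m : M, ∃ i, m ∈ F i := by
      let U : Submodule P M := ⨆ i, F i
      have hmemU : ∀ m, m ∈ U ↔ ∃ i, m ∈ F i := fun m => Submodule.mem_iSup_of_directed _ hFmono.directed_le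
      have hS : ∀ (a : S) (m : M), m ∈ U → a • m ∈ U := by
        intro a
        have ha : a ∈ Algebra.adjoin R (Set.range g) := hg ▸ Algebra.mem_top
        induction ha using Algebra.adjoin_induction with
        | mem y hy =>
          obtain ⟨i, rfl⟩ := hy
          intro m hm
          refine Fin.lastCases ?_ (fun j => ?_) i
          · obtain ⟨t, ht⟩ := (hmemU m).1 hm
            exact (hmemU _).2 ⟨_, hXF t m ht⟩
          · exact U.smul_mem (⟨_, Algebra.subset_adjoin ⟨j, rfl⟩⟩ : P) hm
        | algebraMap r => exact fun m hm => U.smul_mem (⟨_, P.algebraMap_mem r⟩ : P) hm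
        | add a b _ _ ha hb => exact fun m hm => by rw [add_smul]; exact add_mem (ha m hm) (hb m hm)
        | mul a b _ _ ha hb => exact fun m hm => by rw [mul_smul]; exact ha _ (hb m hm)
      intro m
      rw [← hmemU]
      have hm : m ∈ span S (s : Set M) := hs ▸ Submodule.mem_top
      induction hm using Submodule.span_induction with
      | mem y hy => exact (hmemU y).2 ⟨1, hFle Nat.zero_lt_one ⟨y, subset_span hy, by simp⟩⟩
      | zero => exact zero_mem U
      | add a b _ _ ha hb => exact add_mem ha hb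
      | smul a b _ hb => exact hS a b hb
    -- the graded pieces
    let K : ℕ →o Submodule P N₁ :=
      ⟨fun i => (F i).comap ((X ^ i) ∘ₗ N₁.subtype), monotone_nat_of_le_succ fun i m hm => by
        change (X ^ (i + 1)) m.1 ∈ F (i + 1)
        rw [hX, pow_succ', mul_smul, ← hX]
        exact hXF i _ hm⟩
    obtain ⟨I, hI⟩ := monotone_stabilizes_iff_noetherian.2 (inferInstance : IsNoetherian P N₁) K
    have hQ : ∀ i, ∃ f : R, f ≠ 0 ∧ GFree f (N₁ ⧸ K i) := fun i =>
      ih P _ hP (N₁ ⧸ K i)
    choose f hf0 hfree using hQ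
    refine ⟨∏ i ∈ Finset.range (I + 1), f i, Finset.prod_ne_zero_iff.2 fun i _ => hf0 i, ?_⟩
    have hall : ∀ i, GFree (∏ i ∈ Finset.range (I + 1), f i) (N₁ ⧸ K i) := fun i => by
      rcases le_or_gt i I with h | h
      · exact (hfree i).mono (Finset.dvd_prod_of_mem _ (Finset.mem_range.2 (Nat.lt_succ_of_le h)))
      · rw [← hI i h.le]
        exact (hfree I).mono (Finset.dvd_prod_of_mem _ (Finset.mem_range.2 (Nat.lt_succ_self I)))
    generalize (∏ i ∈ Finset.range (I + 1), f i) = F₀ at hall ⊢
    choose J q hqs hqi using hall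
    choose w hw using fun i j => (K i).mkQ_surjective (q i j)
    have hlc : ∀ i (l : J i →₀ R), linearCombination R (fun j => x ^ i • (w i j).1) l =
        (X ^ i) (linearCombination R (w i) l).1 := fun i l => by
      rw [hX, linearCombination_apply, linearCombination_apply, Finsupp.sum, Finsupp.sum,
        AddSubmonoidClass.coe_finsetSum, Finset.smul_sum]
      exact Finset.sum_congr rfl fun j _ => (smul_comm (x ^ i) (l j) (w i j).1).symm
    have hmk : ∀ i (l : J i →₀ R), (K i).mkQ (linearCombination R (w i) l) = linearCombination R (q i) l :=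
      fun i l => by
      rw [← funext (hw i)]
      exact apply_linearCombination R ((K i).mkQ.restrictScalars R) (w i) l
    refine GFree.of_filtration (fun i => (F i).restrictScalars R) (by simp [hF0])
      (fun a b hab => hFmono hab) hUnion (fun i j => x ^ i • (w i j).1)
      (fun i j => hFle (Nat.lt_succ_self i) ⟨_, (w i j).2, hX i _⟩) (fun i m hm => ?_) (fun i l hl => ?_)
    · rw [Submodule.restrictScalars_mem, hFsucc, Submodule.mem_sup] at hm
      obtain ⟨_, ⟨u, hu, rfl⟩, b, hb, rfl⟩ := hm
      obtain ⟨k, hk⟩ := hqs i ((K i).mkQ ⟨u, hu⟩)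
      rw [Finsupp.mem_span_range_iff_exists_finsupp] at hk
      obtain ⟨l, hl⟩ := hk
      replace hl : linearCombination R (q i) l = F₀ ^ k • (K i).mkQ ⟨u, hu⟩ := by
        rw [linearCombination_apply]; exact hl
      have hdiff : F₀ ^ k • (⟨u, hu⟩ : N₁) - linearCombination R (w i) l ∈ K i := by
        rw [← Submodule.Quotient.mk_eq_zero, ← Submodule.mkQ_apply, map_sub, hmk, hl,
          LinearMap.map_smul_of_tower, sub_self]
      replace hdiff : (X ^ i) (F₀ ^ k • (⟨u, hu⟩ : N₁) - linearCombination R (w i) l).1 ∈ F i := hdiff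
      refine ⟨k, Submodule.mem_sup.2 ⟨linearCombination R (fun j => x ^ i • (w i j).1) l, ?_,
        (X ^ i) (F₀ ^ k • (⟨u, hu⟩ : N₁) - linearCombination R (w i) l).1 + F₀ ^ k • b,
        add_mem hdiff (((F i).restrictScalars R).smul_mem _ hb), ?_⟩⟩
      · rw [← Finsupp.range_linearCombination]; exact ⟨l, rfl⟩
      · rw [hlc, AddSubgroupClass.coe_sub, map_sub, SetLike.val_smul_of_tower, LinearMap.map_smul_of_tower,
          smul_add]
        abel
    · have hz : (K i).mkQ (linearCombination R (w i) l) = 0 := by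
        rw [Submodule.mkQ_apply, Submodule.Quotient.mk_eq_zero]
        change (X ^ i) _ ∈ F i
        rw [Submodule.subtype_apply, ← hlc]
        exact hl
      exact hqi i l (by rw [← hmk, hz])

/-- **Generic freeness** over a Noetherian domain. -/
theorem exists_gFree [IsDomain R] [IsNoetherianRing R] (S : Type u) [CommRing S] [Algebra R S]
    [Algebra.FiniteType R S] (M : Type u) [AddCommGroup M] [Module S M] [Module R M] [IsScalarTower R S M]
    [Module.Finite S M] : ∃ f : R, f ≠ 0 ∧ GFree f M := by
  obtain ⟨s, hs⟩ := Algebra.FiniteType.out (R := R) (A := S)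
  refine exists_gFree_of_generators s.card S (fun i => (s.equivFin.symm i).1) ?_ M
  rw [← hs]
  congr 1
  ext a
  exact ⟨fun ⟨i, hi⟩ => hi ▸ (s.equivFin.symm i).2, fun ha => ⟨s.equivFin ⟨a, ha⟩, by simp⟩⟩

/-- `GFree` gives freeness of the localization. -/
theorem GFree.free {f : R} (h : GFree f M) : Module.Free (Localization.Away f) (LocalizedModule.Away f M) := by
  obtain ⟨ι, v, hs, hi⟩ := h
  let S := Submonoid.powers f
  let lc := linearCombination R v
  let Φ := IsLocalizedModule.mapExtendScalars S (LocalizedModule.mkLinearMap S (ι →₀ R))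
    (LocalizedModule.mkLinearMap S M) (Localization S) lc
  have hinj : Function.Injective Φ := by
    rw [injective_iff_map_eq_zero]
    intro y hy
    obtain ⟨⟨l, s⟩, rfl⟩ := IsLocalizedModule.mk'_surjective S (LocalizedModule.mkLinearMap S (ι →₀ R)) y
    change IsLocalizedModule.map S _ _ lc (IsLocalizedModule.mk' _ l s) = 0 at hy
    rw [IsLocalizedModule.map_mk', IsLocalizedModule.mk'_eq_zero'] at hy
    obtain ⟨⟨_, k, rfl⟩, hk⟩ := hy
    change f ^ k • lc l = 0 at hk
    rw [← map_smul] at hk
    obtain ⟨K, hK⟩ := exists_uniform_pow _ (hi _ hk)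
    rw [Function.uncurry_apply_pair, IsLocalizedModule.mk'_eq_zero']
    refine ⟨⟨f ^ (K + k), K + k, rfl⟩, ?_⟩
    change f ^ (K + k) • l = 0
    rw [pow_add, mul_smul, hK]
  have hsurj : Function.Surjective Φ := by
    intro y
    obtain ⟨⟨m, ⟨_, n, rfl⟩⟩, rfl⟩ := IsLocalizedModule.mk'_surjective S (LocalizedModule.mkLinearMap S M) y
    obtain ⟨k, hk⟩ := hs m
    rw [← Finsupp.range_linearCombination] at hk
    obtain ⟨l, hl⟩ := hk
    have hmemS : f ^ (k + n) ∈ S := ⟨k + n, rfl⟩
    refine ⟨IsLocalizedModule.mk' (LocalizedModule.mkLinearMap S (ι →₀ R)) l ⟨f ^ (k + n), hmemS⟩, ?_⟩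
    change IsLocalizedModule.map S _ _ lc (IsLocalizedModule.mk' _ l _) = _
    rw [IsLocalizedModule.map_mk', show lc l = f ^ k • m from hl, Function.uncurry_apply_pair,
      IsLocalizedModule.mk'_eq_mk'_iff]
    refine ⟨1, ?_⟩
    simp only [one_smul, Submonoid.smul_def]
    rw [← mul_smul, pow_add, mul_comm]
  have : Module.Free (Localization S) (LocalizedModule S (ι →₀ R)) :=
    Module.free_of_isLocalizedModule (R := R) (M := ι →₀ R) (Rₛ := Localization S) (Mₛ := LocalizedModule S (ι →₀ R)) S (LocalizedModule.mkLinearMap S (ι →₀ R))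
  exact Module.Free.of_equiv (LinearEquiv.ofBijective Φ ⟨hinj, hsurj⟩)

/-- Generic freeness over a reduced Noetherian ring: every nonzero element has a nonzero multiple
after inverting which the module is free. -/
theorem exists_gFree_of_isReduced [IsReduced R] [IsNoetherianRing R] (S : Type u) [CommRing S] [Algebra R S]
    [Algebra.FiniteType R S] (M : Type u) [AddCommGroup M] [Module S M] [Module R M] [IsScalarTower R S M]
    [Module.Finite S M] {g : R} (hg : g ≠ 0) : ∃ f : R, g ∣ f ∧ f ≠ 0 ∧ GFree f M := by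
  classical
  -- a minimal prime not containing `g`, and an element separating it from the others
  obtain ⟨p, hp, hgp⟩ : ∃ p ∈ minimalPrimes R, g ∉ p := by
    by_contra! h
    have : g ∈ sInf (minimalPrimes R) := Ideal.mem_sInf.2 fun {p} hp => h p hp
    rw [minimalPrimes, Ideal.sInf_minimalPrimes, ← Ideal.zero_eq_bot, ← nilradical, nilradical_eq_zero] at this
    exact hg this
  have := hp.1.1
  have hfin := minimalPrimes.finite_of_isNoetherianRing R
  obtain ⟨c, hc, hcp⟩ : ∃ c, (∀ q ∈ minimalPrimes R, q ≠ p → c ∈ q) ∧ c ∉ p := by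
    by_contra! h
    have hle : (hfin.toFinset.erase p).inf id ≤ p := fun c hc => h c fun q hq hne =>
      Finset.inf_le (f := id) (Finset.mem_erase.2 ⟨hne, hfin.mem_toFinset.2 hq⟩) hc
    obtain ⟨q, hq, hqp⟩ := (Ideal.IsPrime.inf_le' ‹p.IsPrime›).1 hle
    obtain ⟨hne, hq⟩ := Finset.mem_erase.1 hq
    rw [hfin.mem_toFinset] at hq
    exact hne (le_antisymm hqp (hp.2 hq.1 hqp))
  have hcp0 : ∀ a ∈ p, c * a = 0 := fun a ha => by
    have : c * a ∈ sInf (minimalPrimes R) := Ideal.mem_sInf.2 fun {q} hq => by
      rcases eq_or_ne q p with rfl | hne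
      · exact Ideal.mul_mem_left _ _ ha
      · exact Ideal.mul_mem_right _ _ (hc q hq hne)
    rwa [minimalPrimes, Ideal.sInf_minimalPrimes, ← Ideal.zero_eq_bot, ← nilradical, nilradical_eq_zero] at this
  -- reduce to the domain `R ⧸ p`
  let J : Ideal S := p.map (algebraMap R S)
  let N : Submodule S M := J • ⊤
  have : Algebra.FiniteType R (S ⧸ J) :=
    Algebra.FiniteType.of_surjective (Ideal.Quotient.mkₐ R J) (Ideal.Quotient.mkₐ_surjective R J)
  let : Algebra (R ⧸ p) (S ⧸ J) := Ideal.Quotient.algebraQuotientOfLEComap Ideal.le_comap_map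
  have : IsScalarTower R (R ⧸ p) (S ⧸ J) := IsScalarTower.of_algebraMap_eq fun _ => rfl
  have : Algebra.FiniteType (R ⧸ p) (S ⧸ J) := Algebra.FiniteType.of_restrictScalars_finiteType R _ _
  let : Module (S ⧸ J) (M ⧸ N) := inferInstanceAs (Module (S ⧸ J) (M ⧸ (J • ⊤ : Submodule S M)))
  have : IsScalarTower S (S ⧸ J) (M ⧸ N) :=
    inferInstanceAs (IsScalarTower S (S ⧸ J) (M ⧸ (J • ⊤ : Submodule S M)))
  let : Module (R ⧸ p) (M ⧸ N) := Module.compHom _ (algebraMap (R ⧸ p) (S ⧸ J))
  have : IsScalarTower (R ⧸ p) (S ⧸ J) (M ⧸ N) := IsScalarTower.of_algebraMap_smul fun _ _ => rfl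
  have : Module.Finite (S ⧸ J) (M ⧸ N) := Module.Finite.of_restrictScalars_finite S _ _
  obtain ⟨b', hb', ι, q, hqs, hqi⟩ := exists_gFree (R := R ⧸ p) (S ⧸ J) (M ⧸ N)
  obtain ⟨b, rfl⟩ := Ideal.Quotient.mk_surjective b'
  have hbp : b ∉ p := fun h => hb' (Ideal.Quotient.eq_zero_iff_mem.2 h)
  have hsmul : ∀ (r : R) (m : M ⧸ N), Ideal.Quotient.mk p r • m = r • m := fun r m => by
    obtain ⟨m, rfl⟩ := Submodule.Quotient.mk_surjective N m
    change (Ideal.Quotient.mk J (algebraMap R S r)) • Submodule.Quotient.mk (p := N) m = _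
    rw [← Submodule.Quotient.mk_smul, ← algebraMap_smul S r m]
    rfl
  have hkill : ∀ m ∈ N, c • m = 0 := fun m hm => by
    rw [← algebraMap_smul S c m]
    induction hm using Submodule.smul_induction_on' with
    | smul j hj m _ =>
      rw [← mul_smul]
      have : algebraMap R S c * j = 0 := by
        induction hj using Submodule.span_induction with
        | mem y hy => obtain ⟨a, ha, rfl⟩ := hy; rw [← map_mul, hcp0 a ha, map_zero]
        | zero => rw [mul_zero]
        | add y z _ _ hy hz => rw [mul_add, hy, hz, add_zero]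
        | smul s y _ hy => rw [smul_eq_mul, mul_left_comm, hy, mul_zero]
      rw [this, zero_smul]
    | add y z _ _ hy hz => rw [smul_add, hy, hz, add_zero]
  choose w hw using fun i => N.mkQ_surjective (q i)
  refine ⟨g * c * b, ⟨c * b, mul_assoc _ _ _⟩, ?_, ι, w, fun m => ?_, fun l hl i => ?_⟩
  · intro h
    have : g * c * b ∈ p := h ▸ p.zero_mem
    rcases (‹p.IsPrime›).mem_or_mem this with h | h
    · exact ((‹p.IsPrime›).mem_or_mem h).elim hgp hcp
    · exact hbp h
  · obtain ⟨k, hk⟩ := hqs (N.mkQ m)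
    rw [← Finsupp.range_linearCombination] at hk
    obtain ⟨l', hl'⟩ := hk
    choose r hr using fun i => Ideal.Quotient.mk_surjective (I := p) (l' i)
    have hd : b ^ k • m - ∑ i ∈ l'.support, r i • w i ∈ N := by
      rw [← Submodule.Quotient.mk_eq_zero, ← Submodule.mkQ_apply, map_sub, map_sum,
        LinearMap.map_smul_of_tower, ← hsmul, map_pow]
      rw [sub_eq_zero, ← hl', linearCombination_apply, Finsupp.sum]
      exact Finset.sum_congr rfl fun i _ => by
        rw [LinearMap.map_smul_of_tower, hw, ← hsmul, hr]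
    refine ⟨k + 1, ?_⟩
    have hcb : (c * b ^ k) • m = c • ∑ i ∈ l'.support, r i • w i := by
      rw [mul_smul, ← sub_eq_zero, ← smul_sub]
      exact hkill _ hd
    have : (g * c * b) ^ (k + 1) • m = (g ^ (k + 1) * c ^ k * b) • (c * b ^ k) • m := by
      rw [← mul_smul]; ring_nf
    rw [this, hcb]
    exact Submodule.smul_mem _ _ (Submodule.smul_mem _ _ (Submodule.sum_mem _ fun j _ =>
      Submodule.smul_mem _ _ (subset_span ⟨j, rfl⟩)))
  · let l' : ι →₀ R ⧸ p := l.mapRange (Ideal.Quotient.mk p) (map_zero _)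
    have h0 : linearCombination (R ⧸ p) q l' = 0 := by
      rw [linearCombination_apply, Finsupp.sum_mapRange_index fun _ => by rw [zero_smul]]
      rw [show (0 : M ⧸ N) = N.mkQ (linearCombination R w l) by rw [hl, map_zero],
        linearCombination_apply, Finsupp.sum, Finsupp.sum, map_sum]
      exact Finset.sum_congr rfl fun j _ => by rw [LinearMap.map_smul_of_tower, hw, hsmul]
    obtain ⟨k, hk⟩ := hqi l' h0 i
    rw [Finsupp.mapRange_apply, ← map_pow, ← map_mul, Ideal.Quotient.eq_zero_iff_mem] at hk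
    exact ⟨k + 1, by
      have := hcp0 _ hk
      rw [show (g * c * b) ^ (k + 1) * l i = (g ^ (k + 1) * c ^ k * b) * (c * (b ^ k * l i)) by ring, this,
        mul_zero]⟩

end Groth.Agent.GenFree
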